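import Mathlib
set_option linter.all false

/-!
Groups all of whose Sylow subgroups are cyclic: generators and presentation.
-/

set_option autoImplicit false
set_option linter.style.haveILetI false

namespace Cfsg.Agent.H348

/-- The relations of the presentation `⟨x, y | x ^ n, y ^ m, x⁻¹ y x = y ^ r⟩`. -/
def metaRels (n m r : ℕ) : Set (FreeGroup (Fin 2)) :=
  {FreeGroup.of (0 : Fin 2) ^ n, FreeGroup.of (1 : Fin 2) ^ m,
    (FreeGroup.of (0 : Fin 2))⁻¹ * FreeGroup.of 1 * FreeGroup.of 0 * (FreeGroup.of (1 : Fin 2) ^ r)⁻¹}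

/-- conjugation by powers -/
theorem conj_pow_of_rel {G : Type*} [Group G] {x y : G} {r : ℕ} (h : x⁻¹ * y * x = y ^ r) (k : ℕ) :
    (x ^ k)⁻¹ * y * x ^ k = y ^ (r ^ k) := by
  induction k with
  | zero => simp
  | succ k ih =>
    have h1 : (x ^ (k + 1))⁻¹ * y * x ^ (k + 1) = x⁻¹ * ((x ^ k)⁻¹ * y * x ^ k) * x := by
      rw [pow_succ]; group
    rw [h1, ih]
    have h2 : x⁻¹ * y ^ r ^ k * x = (x⁻¹ * y * x) ^ (r ^ k) := by
      have := conj_pow (i := r ^ k) (a := x⁻¹) (b := y)
      rw [inv_inv] at this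
      exact this.symm
    rw [h2, h, ← pow_mul, pow_succ, mul_comm]

/-- A group generated by `a, b` with `a ^ n = b ^ m = 1`, `a⁻¹ b a = b ^ r` has order at most `n * m`. -/
theorem finite_and_card_le {P : Type*} [Group P] {a b : P} {n m r : ℕ} (hn : 0 < n) (hm : 0 < m)
    (ha : a ^ n = 1) (hb : b ^ m = 1) (hr : a⁻¹ * b * a = b ^ r)
    (hcl : Subgroup.closure {a, b} = ⊤) : Finite P ∧ Nat.card P ≤ n * m := by
  set N := Subgroup.zpowers b with hN
  have hNa : ∀ x ∈ N, a⁻¹ * x * a ∈ N := by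
    rintro x ⟨k, rfl⟩
    have h1 : a⁻¹ * b ^ k * a = (a⁻¹ * b * a) ^ k := by
      have := conj_zpow (i := k) (a := a⁻¹) (b := b)
      rw [inv_inv] at this
      exact this.symm
    change a⁻¹ * b ^ k * a ∈ N
    rw [h1, hr]
    exact N.zpow_mem (N.pow_mem (Subgroup.mem_zpowers b) r) k
  have hNa' : ∀ k : ℕ, ∀ x ∈ N, (a ^ k)⁻¹ * x * a ^ k ∈ N := by
    intro k
    induction k with
    | zero => intro x hx; simpa using hx
    | succ k ih =>
      intro x hx
      have h1 : (a ^ (k + 1))⁻¹ * x * a ^ (k + 1) = a⁻¹ * ((a ^ k)⁻¹ * x * a ^ k) * a := by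
        rw [pow_succ]; group
      rw [h1]
      exact hNa _ (ih x hx)
  have hainv : a⁻¹ = a ^ (n - 1) := by
    rw [inv_eq_iff_mul_eq_one, ← pow_succ', Nat.sub_add_cancel hn, ha]
  have hNa'' : ∀ x ∈ N, a * x * a⁻¹ ∈ N := by
    intro x hx
    have h1 := hNa' (n - 1) x hx
    rw [← hainv, inv_inv] at h1
    exact h1
  haveI hNn : N.Normal := by
    have h1 : Subgroup.closure {a, b} ≤ Subgroup.normalizer (N : Set P) := by
      rw [Subgroup.closure_le]
      have h2 : ∀ c : P, (∀ x ∈ N, c * x * c⁻¹ ∈ N) → (∀ x ∈ N, c⁻¹ * x * c ∈ N) →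
          c ∈ Subgroup.normalizer (N : Set P) := by
        intro c h3 h4
        rw [Subgroup.mem_normalizer_iff]
        refine fun x => ⟨h3 x, fun hx => ?_⟩
        have := h4 _ hx
        have h5 : c⁻¹ * (c * x * c⁻¹) * c = x := by group
        rwa [h5] at this
      rintro c (rfl | rfl)
      · exact h2 _ hNa'' hNa
      · have hc : c ∈ N := Subgroup.mem_zpowers c
        exact h2 _ (fun x hx => N.mul_mem (N.mul_mem hc hx) (N.inv_mem hc))
          (fun x hx => N.mul_mem (N.mul_mem (N.inv_mem hc) hx) hc)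
    rw [hcl, top_le_iff] at h1
    exact Subgroup.normalizer_eq_top_iff.1 h1
  have hsup : Subgroup.zpowers a ⊔ N = ⊤ := by
    rw [eq_top_iff, ← hcl, Subgroup.closure_le]
    rintro c (rfl | rfl)
    · exact Subgroup.mem_sup_left (Subgroup.mem_zpowers c)
    · exact Subgroup.mem_sup_right (Subgroup.mem_zpowers c)
  let F : Fin n × Fin m → P := fun p => a ^ (p.1 : ℕ) * b ^ (p.2 : ℕ)
  have hpw : ∀ {c : P} {l : ℕ}, 0 < l → c ^ l = 1 → ∀ x ∈ Subgroup.zpowers c, ∃ i : Fin l, c ^ (i : ℕ) = x := by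
    rintro c l hl hc x ⟨k, rfl⟩
    haveI : NeZero l := ⟨hl.ne'⟩
    have h1 : 0 ≤ k % l := Int.emod_nonneg _ (by exact_mod_cast hl.ne')
    have h2 : k % l < l := Int.emod_lt_of_pos _ (by exact_mod_cast hl)
    refine ⟨⟨(k % l).toNat, by omega⟩, ?_⟩
    change c ^ ((k % l).toNat) = c ^ k
    rw [← zpow_natCast, Int.toNat_of_nonneg h1]
    conv_rhs => rw [← Int.emod_add_mul_ediv k l, zpow_add, zpow_mul, zpow_natCast, hc, one_zpow, mul_one]
  have hF : Function.Surjective F := by
    intro g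
    have hg : g ∈ Subgroup.zpowers a ⊔ N := by rw [hsup]; exact Subgroup.mem_top g
    obtain ⟨u, hu, v, hv, rfl⟩ := (Subgroup.mem_sup_of_normal_right (t := N)).1 hg
    obtain ⟨i, hi⟩ := hpw hn ha u hu
    obtain ⟨j, hj⟩ := hpw hm hb v hv
    exact ⟨(i, j), by change a ^ (i : ℕ) * b ^ (j : ℕ) = _; rw [hi, hj]⟩
  refine ⟨Finite.of_surjective F hF, ?_⟩
  have h1 := Nat.card_le_card_of_surjective F hF
  rwa [Nat.card_prod, Nat.card_fin, Nat.card_fin] at h1

/-- The presentation of a metacyclic group of order `n * m`. -/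
theorem nonempty_presented {G : Type*} [Group G] [Finite G] {x y : G} {n m r : ℕ}
    (hn : 0 < n) (hm : 0 < m) (hx : x ^ n = 1) (hy : y ^ m = 1)
    (hcl : Subgroup.closure {x, y} = ⊤) (hcard : n * m ≤ Nat.card G) (hrel : x⁻¹ * y * x = y ^ r) :
    Nonempty (G ≃* PresentedGroup
          ({FreeGroup.of (0 : Fin 2) ^ n, FreeGroup.of (1 : Fin 2) ^ m,
            (FreeGroup.of (0 : Fin 2))⁻¹ * FreeGroup.of 1 * FreeGroup.of 0 * (FreeGroup.of (1 : Fin 2) ^ r)⁻¹} :
            Set (FreeGroup (Fin 2)))) := by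
  change Nonempty (G ≃* PresentedGroup (metaRels n m r))
  let f : Fin 2 → G := ![x, y]
  have hf : ∀ w ∈ metaRels n m r, FreeGroup.lift f w = 1 := by
    rintro w (rfl | rfl | rfl)
    · simp [f, hx]
    · simp [f, hy]
    · simp only [f, map_mul, map_inv, map_pow, FreeGroup.lift_apply_of, Matrix.cons_val_zero,
        Matrix.cons_val_one, Matrix.cons_val_fin_one]
      rw [hrel, mul_inv_cancel]
  let φ : PresentedGroup (metaRels n m r) →* G := PresentedGroup.toGroup hf
  set a : PresentedGroup (metaRels n m r) := PresentedGroup.of 0 with ha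
  set b : PresentedGroup (metaRels n m r) := PresentedGroup.of 1 with hb
  have hφa : φ a = x := PresentedGroup.toGroup.of hf
  have hφb : φ b = y := PresentedGroup.toGroup.of hf
  have hrels : ∀ w ∈ metaRels n m r, (PresentedGroup.mk (metaRels n m r) w) = 1 := by
    intro w hw
    exact PresentedGroup.one_of_mem hw
  have ha1 : a ^ n = 1 := by
    have := hrels (FreeGroup.of (0 : Fin 2) ^ n) (by simp [metaRels])
    rwa [map_pow] at this
  have hb1 : b ^ m = 1 := by
    have := hrels (FreeGroup.of (1 : Fin 2) ^ m) (by simp [metaRels])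
    rwa [map_pow] at this
  have hab : a⁻¹ * b * a = b ^ r := by
    have := hrels ((FreeGroup.of (0 : Fin 2))⁻¹ * FreeGroup.of 1 * FreeGroup.of 0 *
      (FreeGroup.of (1 : Fin 2) ^ r)⁻¹) (by simp [metaRels])
    rw [map_mul, map_mul, map_mul, map_inv, map_inv, map_pow, mul_inv_eq_one] at this
    exact this
  have hclP : Subgroup.closure {a, b} = ⊤ := by
    have h1 := PresentedGroup.closure_range_of (metaRels n m r)
    rw [← h1]
    congr 1
    ext w
    constructor
    · rintro (rfl | rfl)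
      · exact ⟨0, rfl⟩
      · exact ⟨1, rfl⟩
    · rintro ⟨i, rfl⟩
      fin_cases i
      · exact Or.inl rfl
      · exact Or.inr rfl
  obtain ⟨hfin, hle⟩ := finite_and_card_le hn hm ha1 hb1 hab hclP
  have hsurj : Function.Surjective φ := by
    rw [← MonoidHom.range_eq_top, eq_top_iff, ← hcl, Subgroup.closure_le]
    rintro c (rfl | rfl)
    · exact ⟨a, hφa⟩
    · exact ⟨b, hφb⟩
  have hbij : Function.Bijective φ := by
    refine (Nat.bijective_iff_surjective_and_card _).2 ⟨hsurj, ?_⟩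
    exact le_antisymm (hle.trans hcard) (Nat.card_le_card_of_surjective φ hsurj)
  exact ⟨(MulEquiv.ofBijective φ hbij).symm⟩

/-- Structure of groups all of whose Sylow subgroups are cyclic. -/
theorem zgroup_structure {G : Type*} [Group G] [Finite G] [IsZGroup G] :
    ∃ (x y : G) (r : ℕ), Subgroup.zpowers y = commutator G ∧ Subgroup.closure {x, y} = ⊤ ∧
      orderOf x * orderOf y = Nat.card G ∧ Nat.Coprime (orderOf x) (orderOf y) ∧
      x⁻¹ * y * x = y ^ r ∧ 1 ≤ r ∧ Nat.Coprime (r - 1) (orderOf y) ∧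
      r ^ (orderOf x) % orderOf y = 1 % orderOf y := by
  haveI hcyc : IsCyclic (commutator G) := IsZGroup.isCyclic_commutator G
  obtain ⟨y, hy⟩ := (Subgroup.isCyclic_iff_exists_zpowers_eq_top (commutator G)).1 hcyc
  have hyN : Subgroup.zpowers y = commutator G := hy
  have hm : Nat.card (commutator G) = orderOf y := by rw [← hyN, Nat.card_zpowers]
  have hcop : Nat.Coprime (Nat.card (commutator G)) (commutator G).index :=
    IsZGroup.coprime_commutator_index G
  obtain ⟨H, hH⟩ := Subgroup.exists_right_complement'_of_coprime hcop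
  -- `H` is cyclic
  haveI hHc : IsCyclic H := by
    haveI : IsCyclic (G ⧸ commutator G) := IsZGroup.isCyclic_abelianization
    exact isCyclic_of_surjective (hH.symm.QuotientMulEquiv) (MulEquiv.surjective _)
  obtain ⟨x, hx⟩ := (Subgroup.isCyclic_iff_exists_zpowers_eq_top H).1 hHc
  have hxo : orderOf x = (commutator G).index := by
    rw [hH.symm.index_eq_card, ← hx, Nat.card_zpowers]
  have hyN' : y ∈ commutator G := by rw [← hyN]; exact Subgroup.mem_zpowers y
  have hsup : commutator G ⊔ H = ⊤ := hH.sup_eq_top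
  have hcl : Subgroup.closure {x, y} = ⊤ := by
    rw [eq_top_iff, ← hsup, sup_le_iff, ← hyN, ← hx, Subgroup.zpowers_le, Subgroup.zpowers_le]
    exact ⟨Subgroup.subset_closure (by simp), Subgroup.subset_closure (by simp)⟩
  have hypos : 0 < orderOf y := orderOf_pos y
  -- the relation
  obtain ⟨r, hr1, hr⟩ : ∃ r : ℕ, 1 ≤ r ∧ x⁻¹ * y * x = y ^ r := by
    have h1 : x⁻¹ * y * x ∈ Subgroup.zpowers y := by
      rw [hyN]
      have := Subgroup.Normal.conj_mem (inferInstance : (commutator G).Normal) y hyN' x⁻¹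
      rwa [inv_inv] at this
    obtain ⟨k, hk⟩ := (mem_powers_iff_mem_zpowers.2 h1)
    refine ⟨k + orderOf y, by omega, ?_⟩
    rw [pow_add, pow_orderOf_eq_one, mul_one]
    exact hk.symm
  refine ⟨x, y, r, hyN, hcl, ?_, ?_, hr, hr1, ?_, ?_⟩
  · rw [hxo, ← hm, mul_comm]
    exact (commutator G).card_mul_index
  · rw [hxo, ← hm]
    exact hcop.symm
  · -- `⟨y ^ (r - 1)⟩` contains the commutator subgroup
    set N := Subgroup.zpowers (y ^ (r - 1)) with hN
    have hNy : y⁻¹ * (x⁻¹ * y * x) = y ^ (r - 1) := by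
      rw [hr, inv_mul_eq_iff_eq_mul, ← pow_succ']
      congr 1
      omega
    have hNconj : ∀ k : ℕ, ∀ w : G, w ∈ Subgroup.closure {x, y} → ∃ l : ℤ, w * y ^ k * w⁻¹ = (y ^ k) ^ l := by
      intro k w _
      have h1 : w * y * w⁻¹ ∈ Subgroup.zpowers y := by
        rw [hyN]
        exact Subgroup.Normal.conj_mem (inferInstance : (commutator G).Normal) y hyN' w
      obtain ⟨l, hl⟩ := h1
      refine ⟨l, ?_⟩
      rw [← conj_pow]
      change y ^ l = _ at hl
      rw [← hl, ← zpow_natCast, ← zpow_natCast, ← zpow_mul, ← zpow_mul, mul_comm]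
    haveI hNn : N.Normal := by
      constructor
      rintro _ ⟨j, rfl⟩ w
      obtain ⟨l, hl⟩ := hNconj (r - 1) w (by rw [hcl]; exact Subgroup.mem_top w)
      change w * (y ^ (r - 1)) ^ j * w⁻¹ ∈ N
      rw [← conj_zpow, hl]
      exact N.zpow_mem (N.zpow_mem (Subgroup.mem_zpowers _) l) j
    have hle : commutator G ≤ N := by
      -- the quotient is abelian
      have hab : ∀ u v : G ⧸ N, u * v = v * u := by
        have hclQ : Subgroup.closure {(x : G ⧸ N), (y : G ⧸ N)} = ⊤ := by
          have h1 : (Subgroup.closure {x, y}).map (QuotientGroup.mk' N) = ⊤ := by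
            rw [hcl, ← MonoidHom.range_eq_map, MonoidHom.range_eq_top]
            exact QuotientGroup.mk'_surjective N
          rw [MonoidHom.map_closure, Set.image_pair] at h1
          exact h1
        have hxy : (x : G ⧸ N) * (y : G ⧸ N) = y * x := by
          have h2 : ((y⁻¹ * (x⁻¹ * y * x) : G) : G ⧸ N) = 1 := by
            rw [hNy, QuotientGroup.eq_one_iff]
            exact Subgroup.mem_zpowers _
          have h3 : ((y⁻¹ * (x⁻¹ * y * x) : G) : G ⧸ N) =
            (y : G ⧸ N)⁻¹ * ((x : G ⧸ N)⁻¹ * (y : G ⧸ N) * (x : G ⧸ N)) := rfl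
          rw [h3, inv_mul_eq_one, mul_assoc, eq_inv_mul_iff_mul_eq] at h2
          exact h2
        have hmc : IsMulCommutative (Subgroup.closure {(x : G ⧸ N), (y : G ⧸ N)}) := by
          apply Subgroup.isMulCommutative_closure
          rintro a (rfl | rfl) b (rfl | rfl)
          · rfl
          · exact hxy
          · exact hxy.symm
          · rfl
        intro u v
        have h1 := isMulCommutative_iff.1 hmc ⟨u, by rw [hclQ]; exact Subgroup.mem_top u⟩
          ⟨v, by rw [hclQ]; exact Subgroup.mem_top v⟩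
        exact congrArg Subtype.val h1
      rw [commutator_eq_closure, Subgroup.closure_le]
      rintro _ ⟨u, v, rfl⟩
      rw [SetLike.mem_coe, ← QuotientGroup.eq_one_iff, commutatorElement_def]
      change (u : G ⧸ N) * v * (u : G ⧸ N)⁻¹ * (v : G ⧸ N)⁻¹ = 1
      rw [hab (u : G ⧸ N) v, mul_inv_cancel_right, mul_inv_cancel]
    have h1 : Nat.card (commutator G) ∣ Nat.card N := Subgroup.card_dvd_of_le hle
    rw [hm, hN, Nat.card_zpowers, orderOf_pow] at h1
    have h2 : Nat.gcd (orderOf y) (r - 1) = 1 := by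
      have h3 : orderOf y / Nat.gcd (orderOf y) (r - 1) ∣ orderOf y := Nat.div_dvd_of_dvd (Nat.gcd_dvd_left _ _)
      have h4 := Nat.dvd_antisymm h1 h3
      have h5 : 0 < Nat.gcd (orderOf y) (r - 1) := Nat.gcd_pos_of_pos_left _ hypos
      have h6 := Nat.div_mul_cancel (Nat.gcd_dvd_left (orderOf y) (r - 1))
      rw [← h4] at h6
      exact Nat.eq_of_mul_eq_mul_left hypos (by rw [h6, mul_one])
    rw [Nat.coprime_comm]
    exact h2
  · have h1 := conj_pow_of_rel hr (orderOf x)
    rw [pow_orderOf_eq_one, inv_one, one_mul, mul_one] at h1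
    have h2 : y ^ 1 = y ^ r ^ orderOf x := by rw [pow_one]; exact h1
    rw [pow_eq_pow_iff_modEq] at h2
    exact h2.symm

end Cfsg.Agent.H348
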