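import Cfsg.Agent.H348.FPF
import Cfsg.Agent.H348.ZGroup
import Mathlib
set_option linter.all false

/-!
Fixed-point-free groups all of whose Sylow subgroups are cyclic: the condition on the exponent.
-/

set_option autoImplicit false
set_option linter.style.haveILetI false

namespace Cfsg.Agent.H348

/-- arithmetic: if `k ≡ 1` modulo every prime divisor of `m` and `k ^ p ≡ 1 (mod m)`, `p` a prime not
dividing `m`, then `k ≡ 1 (mod m)`. -/
theorem dvd_sub_one_of_pow {k m p : ℕ} (hp : p.Prime) (hpm : ¬ p ∣ m)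
    (h1 : ∀ q : ℕ, q.Prime → q ∣ m → (q : ℤ) ∣ (k : ℤ) - 1) (h2 : (m : ℤ) ∣ (k : ℤ) ^ p - 1) :
    (m : ℤ) ∣ (k : ℤ) - 1 := by
  have h3 : (k : ℤ) ^ p - 1 = (∑ i ∈ Finset.range p, (k : ℤ) ^ i) * ((k : ℤ) - 1) :=
    (geom_sum_mul (k : ℤ) p).symm
  rw [h3] at h2
  have hcop : IsCoprime (m : ℤ) (∑ i ∈ Finset.range p, (k : ℤ) ^ i) := by
    rw [Int.isCoprime_iff_gcd_eq_one]
    by_contra hne
    obtain ⟨q, hq, hqd⟩ := Nat.exists_prime_and_dvd hne
    have hqm : q ∣ m := by
      have : (q : ℤ) ∣ (m : ℤ) := (Int.natCast_dvd_natCast.2 hqd).trans (Int.gcd_dvd_left _ _)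
      exact_mod_cast this
    have hqs : (q : ℤ) ∣ ∑ i ∈ Finset.range p, (k : ℤ) ^ i :=
      (Int.natCast_dvd_natCast.2 hqd).trans (Int.gcd_dvd_right _ _)
    have h4 : (q : ℤ) ∣ (∑ i ∈ Finset.range p, (k : ℤ) ^ i) - p := by
      have h5 : (∑ i ∈ Finset.range p, (k : ℤ) ^ i) - p = ∑ i ∈ Finset.range p, ((k : ℤ) ^ i - 1) := by
        rw [Finset.sum_sub_distrib]
        simp
      rw [h5]
      refine Finset.dvd_sum fun i _ => ?_
      exact (h1 q hq hqm).trans (by simpa using sub_dvd_pow_sub_pow (k : ℤ) 1 i)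
    have h6 : (q : ℤ) ∣ p := by
      have := dvd_sub hqs h4
      simpa using this
    have h7 : q ∣ p := by exact_mod_cast h6
    rw [Nat.prime_dvd_prime_iff_eq hq hp] at h7
    exact hpm (h7 ▸ hqm)
  exact hcop.dvd_of_dvd_mul_left h2

/-- the sharper exponent condition in a group with a fixed-point-free action -/
theorem HasFPF.pow_condition {G : Type*} [Group G] [Finite G] (h : HasFPF G) {x y : G} {r : ℕ}
    (hcop : Nat.Coprime (orderOf x) (orderOf y)) (hrel : x⁻¹ * y * x = y ^ r)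
    (hrn : r ^ (orderOf x) % orderOf y = 1 % orderOf y) :
    r ^ (orderOf x / ∏ p ∈ (orderOf x).primeFactors, p) % orderOf y = 1 % orderOf y := by
  set n := orderOf x with hn
  set m := orderOf y with hm
  have hnpos : 0 < n := orderOf_pos x
  have hmpos : 0 < m := orderOf_pos y
  haveI : NeZero m := ⟨hmpos.ne'⟩
  -- the key claim
  have key : ∀ p : ℕ, p.Prime → p ∣ n → (r : ZMod m) ^ (n / p) = 1 := by
    intro p hp hpn
    have hpm : ¬ p ∣ m := fun hpm => by
      have := Nat.dvd_gcd hpn hpm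
      rw [hcop] at this
      exact hp.one_lt.ne' (Nat.dvd_one.1 this)
    set t := x ^ (n / p) with ht
    set k := r ^ (n / p) with hk
    have hto : orderOf t = p := by
      rw [ht, orderOf_pow_of_dvd (Nat.div_pos (Nat.le_of_dvd hnpos hpn) hp.pos).ne' (Nat.div_dvd_of_dvd hpn),
        ← hn, Nat.div_div_self hpn hnpos.ne']
    have htk : t⁻¹ * y * t = y ^ k := conj_pow_of_rel hrel (n / p)
    have h2 : (m : ℤ) ∣ (k : ℤ) ^ p - 1 := by
      have h3 : (k : ℤ) ^ p = (r : ℤ) ^ n := by
        rw [hk]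
        push_cast
        rw [← pow_mul, Nat.div_mul_cancel hpn]
      rw [h3]
      have h4 : (r ^ n : ℕ) ≡ 1 [MOD m] := hrn
      have h5 := (Nat.modEq_iff_dvd.1 h4.symm)
      push_cast at h5
      exact h5
    have h1 : ∀ q : ℕ, q.Prime → q ∣ m → (q : ℤ) ∣ (k : ℤ) - 1 := by
      intro q hq hqm
      set s := y ^ (m / q) with hs
      have hso : orderOf s = q := by
        rw [hs, orderOf_pow_of_dvd (Nat.div_pos (Nat.le_of_dvd hmpos hqm) hq.pos).ne' (Nat.div_dvd_of_dvd hqm),
          ← hm, Nat.div_div_self hqm hmpos.ne']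
      have hst : t⁻¹ * s * t = s ^ k := by
        rw [hs]
        have h3 : t⁻¹ * y ^ (m / q) * t = (t⁻¹ * y * t) ^ (m / q) := by
          have := conj_pow (i := m / q) (a := t⁻¹) (b := y)
          rw [inv_inv] at this
          exact this.symm
        rw [h3, htk, ← pow_mul, ← pow_mul, mul_comm]
      set P := Subgroup.closure {t, s} with hP
      have htP : t ∈ P := Subgroup.subset_closure (by simp)
      have hsP : s ∈ P := Subgroup.subset_closure (by simp)
      have hclP : Subgroup.closure {(⟨t, htP⟩ : P), (⟨s, hsP⟩ : P)} = ⊤ := by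
        apply Subgroup.map_injective P.subtype_injective
        rw [MonoidHom.map_closure, Set.image_pair, ← MonoidHom.range_eq_map, Subgroup.range_subtype]
        rfl
      have hcardP := (finite_and_card_le (P := P) (a := ⟨t, htP⟩) (b := ⟨s, hsP⟩) (n := p) (m := q)
        (r := k) hp.pos hq.pos (Subtype.ext (by rw [← hto]; exact pow_orderOf_eq_one t))
        (Subtype.ext (by rw [← hso]; exact pow_orderOf_eq_one s)) (Subtype.ext hst) hclP).2
      have hpP : p ∣ Nat.card P := by
        have := orderOf_dvd_natCard (⟨t, htP⟩ : P)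
        rwa [Subgroup.orderOf_mk, hto] at this
      have hqP : q ∣ Nat.card P := by
        have := orderOf_dvd_natCard (⟨s, hsP⟩ : P)
        rwa [Subgroup.orderOf_mk, hso] at this
      have hpq : p ≠ q := by rintro rfl; exact hpm hqm
      have hcpq : Nat.Coprime p q := (Nat.coprime_primes hp hq).2 hpq
      have hdvd : p * q ∣ Nat.card P := hcpq.mul_dvd_of_dvd_of_dvd hpP hqP
      have hPc : Nat.card P = p * q := le_antisymm hcardP (Nat.le_of_dvd Nat.card_pos hdvd)
      haveI hcyc : IsCyclic P := (h.subgroup P).isCyclic_of_card hp hq hPc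
      letI : CommGroup P := IsCyclic.commGroup
      have hcomm : s * t = t * s := congrArg Subtype.val (mul_comm (⟨s, hsP⟩ : P) ⟨t, htP⟩)
      rw [mul_assoc, hcomm, inv_mul_cancel_left] at hst
      have h4 : s ^ 1 = s ^ k := by rw [pow_one]; exact hst
      rw [pow_eq_pow_iff_modEq, hso] at h4
      have h5 := Nat.modEq_iff_dvd.1 h4
      push_cast at h5 ⊢
      exact h5
    have h3 := dvd_sub_one_of_pow hp hpm h1 h2
    have h4 : ((k : ℤ) : ZMod m) = ((1 : ℤ) : ZMod m) := by
      rw [ZMod.intCast_eq_intCast_iff_dvd_sub]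
      have := (dvd_neg (α := ℤ)).2 h3
      rwa [neg_sub] at this
    rw [hk] at h4
    push_cast at h4
    exact h4
  -- conclusion
  have hd : ∀ p ∈ n.primeFactors, orderOf (r : ZMod m) ∣ n / p := by
    intro p hp
    exact orderOf_dvd_of_pow_eq_one (key p (Nat.prime_of_mem_primeFactors hp) (Nat.dvd_of_mem_primeFactors hp))
  have hdn : orderOf (r : ZMod m) ∣ n := by
    apply orderOf_dvd_of_pow_eq_one
    have h4 : (r ^ n : ℕ) ≡ 1 [MOD m] := hrn
    have h5 := (ZMod.natCast_eq_natCast_iff _ _ _).2 h4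
    push_cast at h5
    exact h5
  obtain ⟨e, he⟩ := hdn
  have hd0 : 0 < orderOf (r : ZMod m) := by
    rcases Nat.eq_zero_or_pos (orderOf (r : ZMod m)) with h0 | h0
    · rw [h0, zero_mul] at he; omega
    · exact h0
  have hpe : ∀ p ∈ n.primeFactors, p ∣ e := by
    intro p hp
    obtain ⟨c, hc⟩ := hd p hp
    have h1 : n = p * (n / p) := (Nat.mul_div_cancel' (Nat.dvd_of_mem_primeFactors hp)).symm
    rw [hc] at h1
    refine ⟨c, ?_⟩
    apply Nat.eq_of_mul_eq_mul_left hd0
    rw [← he]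
    rw [h1]; ring
  have hprod : (∏ p ∈ n.primeFactors, p) ∣ e :=
    Finset.prod_primes_dvd e (fun p hp => (Nat.prime_of_mem_primeFactors hp).prime) hpe
  obtain ⟨c, hc⟩ := hprod
  have hpos : 0 < ∏ p ∈ n.primeFactors, p :=
    Finset.prod_pos fun p hp => (Nat.prime_of_mem_primeFactors hp).pos
  have hdiv : n / ∏ p ∈ n.primeFactors, p = orderOf (r : ZMod m) * c := by
    apply Nat.div_eq_of_eq_mul_left hpos
    rw [he, hc]
    have : (∏ p ∈ n.primeFactors, p) = ∏ p ∈ (orderOf (r : ZMod m) * e).primeFactors, p := by rw [← he]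
    rw [hc] at this
    rw [← this]
    ring
  rw [hdiv]
  have h1 : ((r ^ (orderOf (r : ZMod m) * c) : ℕ) : ZMod m) = ((1 : ℕ) : ZMod m) := by
    push_cast
    rw [pow_mul, pow_orderOf_eq_one, one_pow]
  exact (ZMod.natCast_eq_natCast_iff _ _ _).1 h1

end Cfsg.Agent.H348
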