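import Cfsg.Agent.H348.FPF
import Cfsg.Agent.H348.AutQEight
import Cfsg.Agent.Lib.Cores
import Cfsg.Agent.S0017
import Cfsg.Agent.LFourB.ProdAut
import Cfsg.Agent.H348.Nonsolvable
import Mathlib
set_option linter.all false

/-!
Solvable groups with a fixed-point-free action on a nontrivial finite abelian group.
-/

set_option autoImplicit false
set_option linter.style.haveILetI false

namespace Cfsg.Agent.H348

/-- Coprime lifting of subgroups of a quotient. -/
theorem exists_lift_of_coprime {G : Type*} [Group G] [Finite G] (R : Subgroup G) [R.Normal]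
    (U : Subgroup (G ⧸ R)) (h : (Nat.card R).Coprime (Nat.card U)) :
    ∃ f : U →* G, Function.Injective f ∧ ∀ u : U, ((f u : G) : G ⧸ R) = u := by
  set W := U.comap (QuotientGroup.mk' R) with hW
  have hRW : R ≤ W := by
    intro x hx
    rw [hW, Subgroup.mem_comap, QuotientGroup.mk'_apply, (QuotientGroup.eq_one_iff x).2 hx]
    exact U.one_mem
  have hmap : W.map (QuotientGroup.mk' R) = U :=
    Subgroup.map_comap_eq_self_of_surjective (QuotientGroup.mk'_surjective R) U
  -- index
  have hcardW : Nat.card W = Nat.card R * Nat.card U := by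
    have h1 := Subgroup.card_mul_index (R.subgroupOf W)
    have h2 : Nat.card (R.subgroupOf W) = Nat.card R :=
      Nat.card_congr (Subgroup.subgroupOfEquivOfLe hRW).toEquiv
    have h3 : (R.subgroupOf W).index = Nat.card U := by
      have h4 := Subgroup.relIndex_ker (QuotientGroup.mk' R) (K := W)
      rw [QuotientGroup.ker_mk', hmap] at h4
      exact h4
    rw [← h1, h2, h3]
  have hcardR : Nat.card (R.subgroupOf W) = Nat.card R :=
      Nat.card_congr (Subgroup.subgroupOfEquivOfLe hRW).toEquiv
  have hidx : (R.subgroupOf W).index = Nat.card U := by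
    have h1 := Subgroup.card_mul_index (R.subgroupOf W)
    rw [hcardR, hcardW] at h1
    exact Nat.eq_of_mul_eq_mul_left Nat.card_pos h1
  obtain ⟨K, hK⟩ := Subgroup.exists_right_complement'_of_coprime
    (N := R.subgroupOf W) (by rw [hcardR, hidx]; exact h)
  have hKcard : Nat.card K = Nat.card U := by rw [← hidx, hK.symm.index_eq_card]
  -- the map `K → U`
  let g : K →* U :=
    { toFun := fun k => ⟨((k : W) : G), Subgroup.mem_comap.1 (k : W).2⟩
      map_one' := rfl
      map_mul' := fun _ _ => rfl }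
  have hginj : Function.Injective g := by
    rw [injective_iff_map_eq_one]
    intro k hk
    have h1 : (((k : W) : G) : G ⧸ R) = 1 := congrArg Subtype.val hk
    rw [QuotientGroup.eq_one_iff] at h1
    have h2 : (k : W) ∈ R.subgroupOf W ⊓ K := ⟨h1, k.2⟩
    rw [hK.isCompl.inf_eq_bot, Subgroup.mem_bot] at h2
    exact Subtype.ext h2
  have hgbij : Function.Bijective g :=
    (Nat.bijective_iff_injective_and_card _).2 ⟨hginj, hKcard⟩
  let e := MulEquiv.ofBijective g hgbij
  refine ⟨(W.subtype.comp K.subtype).comp e.symm.toMonoidHom, ?_, ?_⟩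
  · exact (W.subtype_injective.comp K.subtype_injective).comp e.symm.injective
  · intro u
    have h1 : g (e.symm u) = u := e.apply_symm_apply u
    exact congrArg Subtype.val h1

/-- A self-centralizing normal `2`-subgroup without nontrivial automorphisms of odd order:
the group is a `2`-group. -/
theorem isPGroup_of_no_odd_aut {Γ : Type*} [Group Γ] [Finite Γ] (T : Subgroup Γ) [T.Normal]
    (hT : IsPGroup 2 T) (hC : Subgroup.centralizer (T : Set Γ) ≤ T)
    (hodd : ∀ (φ : MulAut T) (n : ℕ), Odd n → φ ^ n = 1 → φ = 1) : IsPGroup 2 Γ := by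
  haveI : Fact (Nat.Prime 2) := ⟨Nat.prime_two⟩
  rw [IsPGroup.iff_card]
  by_contra hcon
  obtain ⟨q, hq, hqd, hq2⟩ : ∃ q : ℕ, q.Prime ∧ q ∣ Nat.card Γ ∧ q ≠ 2 := by
    by_contra h1
    push Not at h1
    apply hcon
    exact ⟨_, Nat.eq_prime_pow_of_unique_prime_dvd (n := Nat.card Γ) Nat.card_pos.ne'
      (fun {d} hd hdd => h1 d hd hdd)⟩
  haveI : Fact q.Prime := ⟨hq⟩
  obtain ⟨g, hg⟩ := exists_prime_orderOf_dvd_card' q hqd
  have hqodd : Odd q := hq.odd_of_ne_two hq2
  have h1 : (MulAut.conjNormal g : MulAut T) = 1 := by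
    apply hodd _ q hqodd
    rw [← map_pow, ← hg, pow_orderOf_eq_one, map_one]
  have h2 : g ∈ Subgroup.centralizer (T : Set Γ) := by
    rw [← ker_conjNormal]
    exact h1
  have h3 := hC h2
  obtain ⟨k, hk⟩ := (IsPGroup.iff_orderOf.1 hT) ⟨g, h3⟩
  rw [Subgroup.orderOf_mk, hg] at hk
  have h4 : q ∣ 2 := hq.dvd_of_dvd_pow (m := 2) (n := k) (by rw [← hk])
  rw [Nat.prime_dvd_prime_iff_eq hq Nat.prime_two] at h4
  exact hq2 h4

/-- Automorphisms of odd order of cyclic `2`-groups are trivial. -/
theorem aut_cyclic_two {T : Type*} [Group T] [Finite T] (hT : IsPGroup 2 T) (hc : IsCyclic T)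
    (φ : MulAut T) (n : ℕ) (hn : Odd n) (h : φ ^ n = 1) : φ = 1 := by
  haveI : Fact (Nat.Prime 2) := ⟨Nat.prime_two⟩
  obtain ⟨k, hk⟩ := IsPGroup.iff_card.1 hT
  have h1 : Nat.card (MulAut T) ∣ 2 ^ k := by
    rw [IsCyclic.card_mulAut, hk]
    rcases Nat.eq_zero_or_pos k with rfl | h0
    · simp
    · rw [Nat.totient_prime_pow Nat.prime_two h0]
      simp only [Nat.add_one_sub_one, mul_one]
      exact pow_dvd_pow 2 (Nat.sub_le k 1)
  have h2 : orderOf φ ∣ 2 ^ k := (orderOf_dvd_natCard φ).trans h1
  have h3 : orderOf φ ∣ n := orderOf_dvd_of_pow_eq_one h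
  have h4 : Nat.Coprime n (2 ^ k) := Nat.Coprime.pow_right _ hn.coprime_two_right
  have h5 : orderOf φ ∣ 1 := by
    rw [← h4]; exact Nat.dvd_gcd h3 h2
  exact orderOf_eq_one_iff.1 (Nat.dvd_one.1 h5)

/-- A preimage of a cyclic subgroup modulo a normal subgroup of odd order. -/
theorem HasFPF.isZGroup_comap {G : Type*} [Group G] [Finite G] (h : HasFPF G) (R : Subgroup G)
    [R.Normal] (hR : (Nat.card R).Coprime 2) (A : Subgroup (G ⧸ R)) (hA : IsCyclic A) :
    IsZGroup (A.comap (QuotientGroup.mk' R)) := by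
  constructor
  intro p hp P
  haveI : Fact p.Prime := ⟨hp⟩
  by_cases hp2 : p = 2
  · subst hp2
    -- `P` maps injectively into `A`
    let g : P →* A :=
      { toFun := fun k => ⟨((k : (A.comap (QuotientGroup.mk' R) : Subgroup G)) : G),
          Subgroup.mem_comap.1 (k : (A.comap (QuotientGroup.mk' R) : Subgroup G)).2⟩
        map_one' := rfl
        map_mul' := fun _ _ => rfl }
    refine isCyclic_of_injective g ?_
    rw [injective_iff_map_eq_one]
    intro k hk
    have h1 : (((k : (A.comap (QuotientGroup.mk' R) : Subgroup G)) : G) : G ⧸ R) = 1 := congrArg Subtype.val hk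
    rw [QuotientGroup.eq_one_iff] at h1
    obtain ⟨j, hj⟩ := (IsPGroup.iff_orderOf.1 P.2) k
    have h2 : orderOf (((k : (A.comap (QuotientGroup.mk' R) : Subgroup G)) : G)) = 2 ^ j := by
      rw [Subgroup.orderOf_coe, Subgroup.orderOf_coe, hj]
    have h3 : orderOf (⟨((k : (A.comap (QuotientGroup.mk' R) : Subgroup G)) : G), h1⟩ : R) ∣ Nat.card R :=
      orderOf_dvd_natCard _
    rw [Subgroup.orderOf_mk, h2] at h3
    have h4 : 2 ^ j ∣ 1 := by
      rw [← hR.pow_right j]
      exact Nat.dvd_gcd h3 dvd_rfl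
    have h5 : orderOf k = 1 := by rw [hj]; exact Nat.dvd_one.1 h4
    exact orderOf_eq_one_iff.1 h5
  · exact (h.subgroup _).isCyclic_sylow hp2 P

/-- A normal subgroup of index two is the kernel of a homomorphism to `Sym(4)`. -/
theorem exists_hom_of_index_two {G : Type*} [Group G] [Finite G] (N : Subgroup G) [hN : N.Normal]
    (hi : N.index = 2) : ∃ f : G →* Equiv.Perm (Fin 4), f.ker = N := by
  have hcard : Nat.card (G ⧸ N) = 2 := hi
  haveI : Finite (G ⧸ N) := Nat.finite_of_card_ne_zero (by rw [hcard]; norm_num)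
  haveI := Fintype.ofFinite (G ⧸ N)
  have hemb : Nonempty ((G ⧸ N) ↪ Fin 4) := by
    rw [Function.Embedding.nonempty_iff_card_le, ← Nat.card_eq_fintype_card, hcard]
    simp
  obtain ⟨ι⟩ := hemb
  refine ⟨(Equiv.Perm.viaEmbeddingHom ι).comp (MulAction.toPermHom G (G ⧸ N)), ?_⟩
  rw [← MonoidHom.comap_ker, (MonoidHom.ker_eq_bot_iff _).2 (Equiv.Perm.viaEmbeddingHom_injective ι),
    MonoidHom.comap_bot, ← Subgroup.normalCore_eq_ker, Subgroup.normalCore_eq_self]

/-- The generalized quaternion group has a cyclic subgroup of index two. -/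
theorem quaternion_index {k : ℕ} :
    (Subgroup.zpowers (QuaternionGroup.a 1 : QuaternionGroup (2 ^ k))).index = 2 := by
  haveI : NeZero (2 ^ k) := ⟨by positivity⟩
  have h1 := (Subgroup.zpowers (QuaternionGroup.a 1 : QuaternionGroup (2 ^ k))).card_mul_index
  rw [Nat.card_zpowers, QuaternionGroup.orderOf_a_one, Nat.card_eq_fintype_card, QuaternionGroup.card] at h1
  have h2 : 0 < 2 * 2 ^ k := by positivity
  have h3 : 4 * 2 ^ k = 2 * 2 ^ k * 2 := by ring
  rw [h3] at h1
  exact Nat.eq_of_mul_eq_mul_left h2 h1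

/-- Structure of solvable fixed-point-free groups. -/
theorem HasFPF.solvable {G : Type*} [Group G] [Finite G] [Group.IsSolvable G] (h : HasFPF G) :
    ∃ G₀ : Subgroup G, G₀.Normal ∧ (∃ f : G →* Equiv.Perm (Fin 4), f.ker = G₀) ∧ IsZGroup G₀ := by
  haveI : Fact (Nat.Prime 2) := ⟨Nat.prime_two⟩
  set R := Cfsg.pPrimeCore 2 G with hR
  haveI hRn : R.Normal := Cfsg.Agent.Lib.Cores.pPrimeCore_normal 2
  have hRc : (Nat.card R).Coprime 2 := Cfsg.Agent.Lib.Cores.pPrimeCore_coprime 2
  set π := QuotientGroup.mk' R with hπ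
  have hcore : Cfsg.pPrimeCore 2 (G ⧸ R) = ⊥ := Cfsg.Agent.Lib.Cores.pPrimeCore_quotient_pPrimeCore 2
  set T := Cfsg.pCore 2 (G ⧸ R) with hT
  haveI hTn : T.Normal := Cfsg.Agent.Lib.Cores.pCore_normal 2
  have hT2 : IsPGroup 2 T := Cfsg.Agent.Lib.Cores.pCore_isPGroup 2
  have hTc : Subgroup.centralizer (T : Set (G ⧸ R)) ≤ T := Cfsg.Agent.S0017.result 2 hcore
  -- two-subgroups of the quotient act fixed-point-freely
  have hfpf : ∀ U : Subgroup (G ⧸ R), IsPGroup 2 U → HasFPF U := by
    intro U hU
    obtain ⟨k, hk⟩ := IsPGroup.iff_card.1 hU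
    obtain ⟨f, hf, -⟩ := exists_lift_of_coprime R U (by rw [hk]; exact hRc.pow_right k)
    exact h.of_injective f hf
  have hZ : ∀ A : Subgroup (G ⧸ R), IsCyclic A → IsZGroup (A.comap π) := fun A hA =>
    h.isZGroup_comap R hRc A hA
  -- the case where the quotient is a 2-group
  have hcase : (∀ (φ : MulAut T) (n : ℕ), Odd n → φ ^ n = 1 → φ = 1) →
      ∃ G₀ : Subgroup G, G₀.Normal ∧ (∃ f : G →* Equiv.Perm (Fin 4), f.ker = G₀) ∧ IsZGroup G₀ := by
    intro hodd
    have h2 : IsPGroup 2 (G ⧸ R) := isPGroup_of_no_odd_aut T hT2 hTc hodd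
    have hF : HasFPF (G ⧸ R) := (hfpf ⊤ (h2.to_subgroup ⊤)).of_injective
      (Subgroup.topEquiv (G := G ⧸ R)).symm.toMonoidHom (Subgroup.topEquiv (G := G ⧸ R)).symm.injective
    rcases hF.cyclic_or_quaternion Nat.prime_two h2 with hc | ⟨-, k, ⟨e⟩⟩
    · refine ⟨(⊤ : Subgroup (G ⧸ R)).comap π, inferInstance, ⟨1, ?_⟩, hZ ⊤ ?_⟩
      · rw [Subgroup.comap_top]; ext; simp
      · exact isCyclic_of_surjective (Subgroup.topEquiv (G := G ⧸ R)).symm (MulEquiv.surjective _)
    · set A := (Subgroup.zpowers (QuaternionGroup.a 1 : QuaternionGroup (2 ^ k))).comap e.toMonoidHom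
        with hA
      have hAi : A.index = 2 := by
        rw [hA, Subgroup.index_comap_of_surjective _ e.surjective, quaternion_index]
      haveI hAn : A.Normal := Subgroup.normal_of_index_eq_two hAi
      have hAi' : (A.comap π).index = 2 := by
        rw [Subgroup.index_comap_of_surjective _ (QuotientGroup.mk'_surjective R), hAi]
      refine ⟨A.comap π, inferInstance, exists_hom_of_index_two _ hAi', hZ A ?_⟩
      have hmap : A.map e.toMonoidHom = Subgroup.zpowers (QuaternionGroup.a 1 : QuaternionGroup (2 ^ k)) :=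
        Subgroup.map_comap_eq_self_of_surjective e.surjective _
      have e2 : A ≃* A.map e.toMonoidHom := A.equivMapOfInjective _ e.injective
      rw [hmap] at e2
      exact isCyclic_of_surjective e2.symm e2.symm.surjective
  rcases (hfpf T hT2).cyclic_or_quaternion Nat.prime_two hT2 with hc | ⟨-, k, ⟨e⟩⟩
  · exact hcase (aut_cyclic_two hT2 hc)
  · by_cases hk2 : 2 ≤ k
    · apply hcase
      intro φ n hn hφ
      have h1 : MulAut.congr e φ = 1 := by
        apply Cfsg.Agent.LFourB.ProdAut.eq_one_of_odd hk2 _ hn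
        rw [← map_pow, hφ, map_one]
      exact (map_eq_one_iff (MulAut.congr e) (MulAut.congr e).injective).1 h1
    · have hk : k = 0 ∨ k = 1 := by omega
      rcases hk with rfl | rfl
      · apply hcase
        apply aut_cyclic_two hT2
        haveI : IsCyclic (QuaternionGroup (2 ^ 0)) := QuaternionGroup.quaternionGroup_one_isCyclic
        exact isCyclic_of_surjective e.symm e.symm.surjective
      · -- the quaternion group of order eight
        let ψ : MulAut T →* Equiv.Perm (Fin 4) :=
          AutQEight.toPerm.comp (MulAut.congr e).toMonoidHom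
        have hψ : Function.Injective ψ := AutQEight.toPerm_injective.comp (MulAut.congr e).injective
        let f : G →* Equiv.Perm (Fin 4) := ψ.comp ((MulAut.conjNormal : (G ⧸ R) →* MulAut T).comp π)
        have hker : f.ker = (Subgroup.centralizer (T : Set (G ⧸ R))).comap π := by
          rw [← ker_conjNormal T, MonoidHom.comap_ker]
          ext x
          rw [MonoidHom.mem_ker, MonoidHom.mem_ker]
          exact map_eq_one_iff ψ hψ
        refine ⟨f.ker, inferInstance, ⟨f, rfl⟩, ?_⟩
        rw [hker]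
        apply hZ
        -- the centralizer has order two
        have hle : Subgroup.centralizer (T : Set (G ⧸ R)) ≤ (Subgroup.center T).map T.subtype := by
          intro x hx
          refine ⟨⟨x, hTc hx⟩, ?_, rfl⟩
          rw [SetLike.mem_coe, Subgroup.mem_center_iff]
          rintro ⟨y, hy⟩
          exact Subtype.ext ((Subgroup.mem_centralizer_iff.1 hx) y hy)
        have hcyc : IsCyclic (Subgroup.center T) := by
          apply ((hfpf T hT2).subgroup (Subgroup.center T)).isCyclic
          intro a b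
          exact Subtype.ext ((Subgroup.mem_center_iff.1 b.2) a)
        have hcyc2 : IsCyclic ((Subgroup.center T).map T.subtype) := by
          have e3 := (Subgroup.center T).equivMapOfInjective T.subtype T.subtype_injective
          exact isCyclic_of_surjective e3 e3.surjective
        exact isCyclic_of_injective (Subgroup.inclusion hle) (Subgroup.inclusion_injective hle)

end Cfsg.Agent.H348
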